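import Mathlib
import Cfsg.Agent.Lib.Helper67.LSF.Defs

/-!
# LSF (S5286), package [RED]: every path can be replaced by a path with a reduced word
-/

set_option autoImplicit false

namespace Cfsg.Agent.Lib.Helper73.LSF

open Cfsg Cfsg.Agent.Lib.Helper67.LSF

universe u

theorem lam_injective_h73 {Ω : Type u} [Group Ω] (S : Subgroup Ω) {a b : S}
    (h : lam S a = lam S b) : a = b := by
  have := congrArg (fun f : Equiv.Perm S => f 1) h
  simpa [lam_apply] using this

theorem mk_cancel_true_h73 {α : Type u} (x : α) (L : List (α × Bool)) :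
    FreeGroup.mk L = FreeGroup.mk ((x, true) :: (x, false) :: L) :=
  (Quot.sound (FreeGroup.Red.Step.not (L₁ := []) (L₂ := L) (x := x) (b := true))).symm

theorem mk_cancel_false_h73 {α : Type u} (x : α) (L : List (α × Bool)) :
    FreeGroup.mk L = FreeGroup.mk ((x, false) :: (x, true) :: L) :=
  (Quot.sound (FreeGroup.Red.Step.not (L₁ := []) (L₂ := L) (x := x) (b := false))).symm

theorem mk_cons_congr_h73 {α : Type u} (ℓ : α × Bool) {L L' : List (α × Bool)}
    (h : FreeGroup.mk L' = FreeGroup.mk L) : FreeGroup.mk (ℓ :: L') = FreeGroup.mk (ℓ :: L) := by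
  have e1 : FreeGroup.mk (ℓ :: L') = FreeGroup.mk [ℓ] * FreeGroup.mk L' := by
    rw [FreeGroup.mul_mk]; rfl
  have e2 : FreeGroup.mk (ℓ :: L) = FreeGroup.mk [ℓ] * FreeGroup.mk L := by
    rw [FreeGroup.mul_mk]; rfl
  rw [e1, e2, h]

/-- [RED] -/
theorem pkgRed (hInv : PkgInv.{u}) : PkgRed.{u} := by
  intro Ω _ S F L q h
  induction h with
  | nil s => exact ⟨[], Path.nil s, FreeGroup.IsReduced.nil, rfl⟩
  | a s h ih =>
    obtain ⟨L', hp, hred, hmk⟩ := ih
    exact ⟨L', Path.a s hp, hred, hmk⟩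
  | @t i L q h ih =>
    obtain ⟨L', hp, hred, hmk⟩ := ih
    by_cases hr : FreeGroup.IsReduced
        (((⟨i, ((q⁻¹ : Equiv.Perm S) : Equiv.Perm S ⧸ Lam i)⟩ : X F), true) :: L')
    · exact ⟨_, Path.t i hp, hr, mk_cons_congr_h73 _ hmk⟩
    · cases L' with
      | nil => exact absurd FreeGroup.IsReduced.singleton hr
      | cons b L'' =>
        rw [FreeGroup.isReduced_cons_cons] at hr
        have hb : ¬ ((⟨i, ((q⁻¹ : Equiv.Perm S) : Equiv.Perm S ⧸ Lam i)⟩ : X F) = b.1 →
            true = b.2) := fun hh => hr ⟨hh, hred⟩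
        push Not at hb
        obtain ⟨hb1, hb2⟩ := hb
        obtain ⟨bx, bb⟩ := b
        simp only at hb1 hb2
        subst hb1
        have hbb : bb = false := by cases bb <;> simp_all
        subst hbb
        obtain ⟨i', s, q₀, hp₀, hx, hq⟩ := (hInv S F).2.2 _ L'' q hp
        obtain ⟨hi, hc⟩ := Sigma.mk.inj_iff.mp hx
        subst hi
        have hc' := eq_of_heq hc
        rw [QuotientGroup.eq] at hc'
        have hs : lam S s ∈ Lam i := by
          have e : (q⁻¹)⁻¹ * (q₀⁻¹ * i.σ) = lam S s := by rw [hq]; group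
          rwa [e] at hc'
        obtain ⟨u, hu, hus⟩ := hs
        have hus' : u = s := lam_injective_h73 S hus
        subst hus'
        have hu' : (u : Ω) ∈ i.P := hu
        have hconj : i.σ * lam S u =
            lam S ⟨i.φ ⟨(u : Ω), hu'⟩, (F.le_of_mem i.mem).2 ⟨(u : Ω), hu'⟩⟩ * i.σ := by
          refine Equiv.ext fun x => ?_
          exact i.hσ ⟨(u : Ω), hu'⟩ x
        have key : i.σ * q =
            lam S ⟨i.φ ⟨(u : Ω), hu'⟩, (F.le_of_mem i.mem).2 ⟨(u : Ω), hu'⟩⟩ * q₀ := by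
          rw [hq]
          calc i.σ * (lam S u * i.σ⁻¹ * q₀) = (i.σ * lam S u) * i.σ⁻¹ * q₀ := by group
            _ = lam S ⟨i.φ ⟨(u : Ω), hu'⟩, (F.le_of_mem i.mem).2 ⟨(u : Ω), hu'⟩⟩ * q₀ := by
                rw [hconj]; group
        refine ⟨L'', ?_, hred.infix (List.suffix_cons _ _).isInfix, ?_⟩
        · rw [key]; exact Path.a _ hp₀
        · rw [← mk_cons_congr_h73 _ hmk]
          exact mk_cancel_true_h73 _ L''
  | @t' i L q h ih =>
    obtain ⟨L', hp, hred, hmk⟩ := ih
    by_cases hr : FreeGroup.IsReduced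
        (((⟨i, ((q⁻¹ * i.σ : Equiv.Perm S) : Equiv.Perm S ⧸ Lam i)⟩ : X F), false) :: L')
    · exact ⟨_, Path.t' i hp, hr, mk_cons_congr_h73 _ hmk⟩
    · cases L' with
      | nil => exact absurd FreeGroup.IsReduced.singleton hr
      | cons b L'' =>
        rw [FreeGroup.isReduced_cons_cons] at hr
        have hb : ¬ ((⟨i, ((q⁻¹ * i.σ : Equiv.Perm S) : Equiv.Perm S ⧸ Lam i)⟩ : X F) = b.1 →
            false = b.2) := fun hh => hr ⟨hh, hred⟩
        push Not at hb
        obtain ⟨hb1, hb2⟩ := hb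
        obtain ⟨bx, bb⟩ := b
        simp only at hb1 hb2
        subst hb1
        have hbb : bb = true := by cases bb <;> simp_all
        subst hbb
        obtain ⟨i', s, q₀, hp₀, hx, hq⟩ := (hInv S F).2.1 _ L'' q hp
        obtain ⟨hi, hc⟩ := Sigma.mk.inj_iff.mp hx
        subst hi
        have hc' := eq_of_heq hc
        rw [QuotientGroup.eq] at hc'
        have hs : i.σ⁻¹ * lam S s * i.σ ∈ Lam i := by
          have e : (q⁻¹ * i.σ)⁻¹ * q₀⁻¹ = i.σ⁻¹ * lam S s * i.σ := by rw [hq]; group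
          rwa [e] at hc'
        obtain ⟨u, hu, hus⟩ := hs
        have key : i.σ⁻¹ * q = lam S u * q₀ := by
          rw [hq, hus]; group
        refine ⟨L'', ?_, hred.infix (List.suffix_cons _ _).isInfix, ?_⟩
        · rw [key]; exact Path.a _ hp₀
        · rw [← mk_cons_congr_h73 _ hmk]
          exact mk_cancel_false_h73 _ L''

end Cfsg.Agent.Lib.Helper73.LSF
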